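import Mathlib

set_option autoImplicit false
set_option linter.unusedSectionVars false
set_option linter.unusedVariables false
set_option linter.unusedSimpArgs false
set_option linter.style.haveILetI false
set_option maxHeartbeats 400000

/-!
# Injectivity of the conormal map for `A'[x,y]/(xy - τ)` over `A' = A ⊕ εJ`
Part a: generic lemma on derivations, the target ring `E = C ⊕ (C ⊗ J)` with `C = A[T;T⁻¹]`.
-/

namespace Groth.Agent.Lib.Helper6.NodeDef

open TensorProduct LaurentPolynomial KaehlerDifferential

section GenericDer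

theorem D_eq_zero_of_kerToTensor_eq_zero {A B' : Type*} [CommRing A] [CommRing B'] [Algebra A B']
    (I : Ideal B')
    {N : Type*} [AddCommGroup N] [Module A N] [Module B' N] [IsScalarTower A B' N]
    (hN : ∀ i ∈ I, ∀ n : N, i • n = 0) (D : Derivation A B' N)
    (i : RingHom.ker (algebraMap B' (B' ⧸ I)))
    (h : KaehlerDifferential.kerToTensor A B' (B' ⧸ I) i = 0) :
    D (i : B') = 0 := by
  have hM : Module.IsTorsionBySet B' N (I : Set B') := fun n a => hN a.1 a.2 n
  letI := hM.module
  haveI : IsScalarTower B' (B' ⧸ I) N := hM.isScalarTower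
  let L : (B' ⧸ I) ⊗[B'] Ω[B'⁄A] →ₗ[B' ⧸ I] N :=
    LinearMap.liftBaseChange (B' ⧸ I) D.liftKaehlerDifferential
  have h2 := congrArg L h
  rw [KaehlerDifferential.kerToTensor_apply, LinearMap.liftBaseChange_tmul, one_smul,
    Derivation.liftKaehlerDifferential_comp_D, map_zero] at h2
  exact h2

end GenericDer

end Groth.Agent.Lib.Helper6.NodeDef
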