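import Mathlib
import Groth.Agent.Lib.Helper6.NodeDef.NDa

set_option autoImplicit false
set_option linter.unusedSectionVars false
set_option linter.unusedVariables false
set_option linter.unusedSimpArgs false
set_option linter.style.haveILetI false
set_option maxHeartbeats 400000

namespace Groth.Agent.Lib.Helper6.NodeDef

open TensorProduct LaurentPolynomial KaehlerDifferential

section Target

variable (A : Type*) [CommRing A] (J : Type*) [AddCommGroup J] [Module A J] [Module Aᵐᵒᵖ J]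
  [IsCentralScalar A J]

/-- The target ring `E = C ⊕ ε (C ⊗ J)`, `C = A[T;T⁻¹]`. -/
abbrev EE := TrivSqZeroExt (A[T;T⁻¹]) (A[T;T⁻¹] ⊗[A] J)

/-- `ι_E : A' → E`, `(a, j) ↦ (a, 1 ⊗ j)`. -/
noncomputable def iotaE : TrivSqZeroExt A J →ₐ[A] EE A J :=
  TrivSqZeroExt.lift (Algebra.ofId A (EE A J))
    ((TrivSqZeroExt.inrHom (A[T;T⁻¹]) (A[T;T⁻¹] ⊗[A] J)).restrictScalars A ∘ₗ
      (TensorProduct.mk A (A[T;T⁻¹]) J 1))
    (fun x y => by simp)
    (fun r x => by
      simp only [LinearMap.comp_apply, LinearMap.restrictScalars_apply, TensorProduct.mk_apply,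
        TrivSqZeroExt.inrHom_apply, Algebra.ofId_apply, tmul_smul]
      rw [← Algebra.smul_def, TrivSqZeroExt.inr_smul])
    (fun r x => by
      simp only [LinearMap.comp_apply, LinearMap.restrictScalars_apply, TensorProduct.mk_apply,
        TrivSqZeroExt.inrHom_apply, Algebra.ofId_apply, op_smul_eq_smul, tmul_smul]
      rw [mul_comm, ← Algebra.smul_def, TrivSqZeroExt.inr_smul])

theorem iotaE_inl (a : A) : iotaE A J (TrivSqZeroExt.inl a) = algebraMap A (EE A J) a := by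
  rw [iotaE, TrivSqZeroExt.lift_apply_inl]
  rfl

theorem iotaE_inr (j : J) :
    iotaE A J (TrivSqZeroExt.inr j) = TrivSqZeroExt.inr ((1 : A[T;T⁻¹]) ⊗ₜ[A] j) := by
  rw [iotaE, TrivSqZeroExt.lift_apply_inr]
  rfl

theorem iotaE_fst (z : TrivSqZeroExt A J) :
    (iotaE A J z).fst = algebraMap A (A[T;T⁻¹]) z.fst := by
  conv_lhs => rw [← TrivSqZeroExt.inl_fst_add_inr_snd_eq z]
  rw [map_add, iotaE_inl, iotaE_inr, TrivSqZeroExt.fst_add, TrivSqZeroExt.fst_inr, add_zero]
  rfl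

theorem iotaE_snd (z : TrivSqZeroExt A J) :
    (iotaE A J z).snd = (1 : A[T;T⁻¹]) ⊗ₜ[A] z.snd := by
  conv_lhs => rw [← TrivSqZeroExt.inl_fst_add_inr_snd_eq z]
  rw [map_add, iotaE_inl, iotaE_inr, TrivSqZeroExt.snd_add, TrivSqZeroExt.snd_inr]
  have : (algebraMap A (EE A J) z.fst).snd = 0 := rfl
  rw [this, zero_add]

end Target

section Lift

variable {A : Type*} [CommRing A] {J : Type*} [AddCommGroup J] [Module A J] [Module Aᵐᵒᵖ J]
  [IsCentralScalar A J] (τ : TrivSqZeroExt A J)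
  {B' : Type*} [CommRing B'] [Algebra (TrivSqZeroExt A J) B'] (x y : B')
  (hsurj : Function.Surjective
    (MvPolynomial.aeval ![x, y] :
      MvPolynomial (Fin 2) (TrivSqZeroExt A J) →ₐ[TrivSqZeroExt A J] B'))
  (hker : RingHom.ker
    (MvPolynomial.aeval ![x, y] :
      MvPolynomial (Fin 2) (TrivSqZeroExt A J) →ₐ[TrivSqZeroExt A J] B') =
    Ideal.span {MvPolynomial.X 0 * MvPolynomial.X 1 - MvPolynomial.C τ})

include hsurj hker in
theorem exists_lift (e1 e2 : EE A J) (h : e1 * e2 = iotaE A J τ) :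
    ∃ Θ : B' →+* EE A J, Θ x = e1 ∧ Θ y = e2 ∧
      ∀ a', Θ (algebraMap (TrivSqZeroExt A J) B' a') = iotaE A J a' := by
  let π : MvPolynomial (Fin 2) (TrivSqZeroExt A J) →+* B' :=
    (MvPolynomial.aeval ![x, y] :
      MvPolynomial (Fin 2) (TrivSqZeroExt A J) →ₐ[TrivSqZeroExt A J] B').toRingHom
  let g : MvPolynomial (Fin 2) (TrivSqZeroExt A J) →+* EE A J :=
    MvPolynomial.eval₂Hom (iotaE A J : TrivSqZeroExt A J →+* EE A J) ![e1, e2]
  have hle : RingHom.ker π ≤ RingHom.ker g := by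
    have : RingHom.ker π = Ideal.span {MvPolynomial.X 0 * MvPolynomial.X 1 - MvPolynomial.C τ} :=
      hker
    rw [this, Ideal.span_le, Set.singleton_subset_iff]
    show g _ = 0
    simp only [g, map_sub, map_mul, MvPolynomial.eval₂Hom_X', MvPolynomial.eval₂Hom_C,
      Matrix.cons_val_zero, Matrix.cons_val_one]
    rw [sub_eq_zero]
    exact h
  let Θ : B' →+* EE A J := RingHom.liftOfSurjective π hsurj ⟨g, hle⟩
  have hΘ : ∀ p, Θ (π p) = g p := fun p => RingHom.liftOfSurjective_comp_apply π hsurj ⟨g, hle⟩ p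
  refine ⟨Θ, ?_, ?_, ?_⟩
  · have : x = π (MvPolynomial.X 0) := by
      show x = MvPolynomial.aeval ![x, y] (MvPolynomial.X 0)
      rw [MvPolynomial.aeval_X]
      rfl
    rw [this, hΘ]
    simp [g]
  · have : y = π (MvPolynomial.X 1) := by
      show y = MvPolynomial.aeval ![x, y] (MvPolynomial.X 1)
      rw [MvPolynomial.aeval_X]
      rfl
    rw [this, hΘ]
    simp [g]
  · intro a'
    have : algebraMap (TrivSqZeroExt A J) B' a' = π (MvPolynomial.C a') := by
      show _ = MvPolynomial.aeval ![x, y] (MvPolynomial.C a')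
      rw [MvPolynomial.aeval_C]
    rw [this, hΘ]
    simp [g]

end Lift

section Der

variable {A : Type*} [CommRing A] {J : Type*} [AddCommGroup J] [Module A J] [Module Aᵐᵒᵖ J]
  [IsCentralScalar A J]
  {B' : Type*} [CommRing B'] [Algebra (TrivSqZeroExt A J) B'] [Algebra A B']
  [IsScalarTower A (TrivSqZeroExt A J) B']

theorem snd_eq_zero (Θ : B' →+* EE A J)
    (hΘ : ∀ a', Θ (algebraMap (TrivSqZeroExt A J) B' a') = iotaE A J a')
    (i : RingHom.ker (algebraMap B'
      (B' ⧸ Ideal.map (algebraMap (TrivSqZeroExt A J) B') (TrivSqZeroExt.kerIdeal A J))))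
    (h : KaehlerDifferential.kerToTensor A B'
      (B' ⧸ Ideal.map (algebraMap (TrivSqZeroExt A J) B') (TrivSqZeroExt.kerIdeal A J)) i = 0) :
    (Θ (i : B')).snd = 0 := by
  let γ : B' →+* A[T;T⁻¹] :=
    (TrivSqZeroExt.fstHom A (A[T;T⁻¹]) (A[T;T⁻¹] ⊗[A] J)).toRingHom.comp Θ
  have hγ : ∀ b, γ b = (Θ b).fst := fun b => rfl
  letI : Module B' (A[T;T⁻¹] ⊗[A] J) := Module.compHom _ γ
  have hsmul : ∀ (b : B') (n : A[T;T⁻¹] ⊗[A] J), b • n = (Θ b).fst • n := fun _ _ => rfl
  have hΘalg : ∀ a : A, Θ (algebraMap A B' a) = algebraMap A (EE A J) a := by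
    intro a
    rw [IsScalarTower.algebraMap_apply A (TrivSqZeroExt A J) B', hΘ, AlgHom.commutes]
  haveI : IsScalarTower A B' (A[T;T⁻¹] ⊗[A] J) := by
    refine ⟨fun a b n => ?_⟩
    rw [hsmul, hsmul, Algebra.smul_def, map_mul, hΘalg, TrivSqZeroExt.fst_mul, mul_smul]
    have : (algebraMap A (EE A J) a).fst = algebraMap A (A[T;T⁻¹]) a := rfl
    rw [this, algebraMap_smul]
  let D0 : B' →ₗ[A] (A[T;T⁻¹] ⊗[A] J) :=
    { toFun := fun b => (Θ b).snd
      map_add' := fun a b => by rw [map_add, TrivSqZeroExt.snd_add]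
      map_smul' := fun a b => by
        rw [Algebra.smul_def, map_mul, hΘalg, ← Algebra.smul_def, TrivSqZeroExt.snd_smul]
        rfl }
  let D : Derivation A B' (A[T;T⁻¹] ⊗[A] J) := Derivation.mk' D0 (fun a b => by
    show (Θ (a * b)).snd = (Θ a).fst • (Θ b).snd + (Θ b).fst • (Θ a).snd
    rw [map_mul, TrivSqZeroExt.snd_mul, op_smul_eq_smul])
  have hN : ∀ i ∈ Ideal.map (algebraMap (TrivSqZeroExt A J) B') (TrivSqZeroExt.kerIdeal A J),
      ∀ n : A[T;T⁻¹] ⊗[A] J, i • n = 0 := by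
    intro i hi n
    have hle : Ideal.map (algebraMap (TrivSqZeroExt A J) B') (TrivSqZeroExt.kerIdeal A J) ≤
        RingHom.ker γ := by
      rw [Ideal.map_le_iff_le_comap]
      intro z hz
      rw [Ideal.mem_comap, RingHom.mem_ker, hγ, hΘ, iotaE_fst]
      have : z.fst = 0 := hz
      rw [this, map_zero]
    have : γ i = 0 := hle hi
    rw [hsmul, ← hγ, this, zero_smul]
  exact D_eq_zero_of_kerToTensor_eq_zero _ hN D i h

end Der

end Groth.Agent.Lib.Helper6.NodeDef
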