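import Mathlib
import Groth.Agent.Lib.Helper6.NodeDef.NDb

set_option autoImplicit false
set_option linter.unusedSectionVars false
set_option linter.unusedVariables false
set_option linter.unusedSimpArgs false
set_option linter.style.haveILetI false
set_option maxHeartbeats 400000

namespace Groth.Agent.Lib.Helper6.NodeDef

open TensorProduct LaurentPolynomial KaehlerDifferential

section Coeff

variable (A : Type*) [CommRing A] (J : Type*) [AddCommGroup J] [Module A J]

/-- The `m`-th coefficient as a linear map. -/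
noncomputable def coeffL (m : ℤ) : A[T;T⁻¹] →ₗ[A] A where
  toFun f := f.coeff m
  map_add' f g := by rw [AddMonoidAlgebra.coeff_add]; rfl
  map_smul' a f := by rw [AddMonoidAlgebra.coeff_smul]; rfl

/-- `c ⊗ j ↦ c_m • j`. -/
noncomputable def evL (m : ℤ) : A[T;T⁻¹] ⊗[A] J →ₗ[A] J :=
  (TensorProduct.lid A J).toLinearMap ∘ₗ (coeffL A m).rTensor J

theorem evL_tmul (m : ℤ) (c : A[T;T⁻¹]) (j : J) : evL A J m (c ⊗ₜ[A] j) = c.coeff m • j := by
  simp [evL, coeffL]

theorem coeff_T_pow (a : ℕ) (m : ℤ) :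
    ((T 1 : A[T;T⁻¹]) ^ a).coeff m = if (a : ℤ) = m then 1 else 0 := by
  rw [T_pow, mul_one, T_apply]

theorem coeff_CT_pow (t : A) (b : ℕ) (m : ℤ) :
    ((C t * T (-1) : A[T;T⁻¹]) ^ b).coeff m = if (-(b : ℤ)) = m then t ^ b else 0 := by
  rw [mul_pow, T_pow, mul_neg, mul_one, ← map_pow, ← single_eq_C_mul_T]
  rw [AddMonoidAlgebra.coeff_single, Finsupp.single_apply]

end Coeff

section NF

variable {A : Type*} [CommRing A] {J : Type*} [AddCommGroup J] [Module A J] [Module Aᵐᵒᵖ J]
  [IsCentralScalar A J]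
  {B' : Type*} [CommRing B'] [Algebra (TrivSqZeroExt A J) B'] (x y : B')

theorem inr_mul' (j : J) (z : TrivSqZeroExt A J) :
    (TrivSqZeroExt.inr j : TrivSqZeroExt A J) * z = TrivSqZeroExt.inr (z.fst • j) := by
  ext
  · simp
  · simp

variable (A J B') in
/-- `α j = algebraMap (ε j)`. -/
noncomputable def alpha : J →+ B' :=
  (algebraMap (TrivSqZeroExt A J) B' : TrivSqZeroExt A J →+ B').comp
    (TrivSqZeroExt.inrHom A J).toAddMonoidHom

theorem alpha_apply (j : J) :
    alpha A J B' j = algebraMap (TrivSqZeroExt A J) B' (TrivSqZeroExt.inr j) := rfl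

theorem alpha_mul_algebraMap (j : J) (z : TrivSqZeroExt A J) :
    alpha A J B' j * algebraMap (TrivSqZeroExt A J) B' z = alpha A J B' (z.fst • j) := by
  rw [alpha_apply, alpha_apply, ← map_mul, inr_mul']

variable (A J) in
/-- The generators `ε j x^a`, `ε j y^b`. -/
def gens : Set B' :=
  {s | ∃ (j : J) (a : ℕ), s = alpha A J B' j * x ^ a} ∪
    {s | ∃ (j : J) (b : ℕ), s = alpha A J B' j * y ^ b}

variable (A J) in
/-- The additive subgroup spanned by the generators. -/
def SS : AddSubgroup B' := AddSubgroup.closure (gens A J x y)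

theorem mul_mem_SS (m : B') (hm : ∀ g ∈ gens A J x y, m * g ∈ SS A J x y) :
    ∀ s ∈ SS A J x y, m * s ∈ SS A J x y := by
  intro s hs
  refine AddSubgroup.closure_induction (p := fun s _ => m * s ∈ SS A J x y) ?_ ?_ ?_ ?_ hs
  · intro g hg
    exact hm g hg
  · rw [mul_zero]
    exact (SS A J x y).zero_mem
  · intro a b _ _ ha hb
    rw [mul_add]
    exact (SS A J x y).add_mem ha hb
  · intro a _ ha
    rw [mul_neg]
    exact (SS A J x y).neg_mem ha

theorem gen_x_mem (j : J) (a : ℕ) : alpha A J B' j * x ^ a ∈ SS A J x y :=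
  AddSubgroup.subset_closure (Or.inl ⟨j, a, rfl⟩)

theorem gen_y_mem (j : J) (b : ℕ) : alpha A J B' j * y ^ b ∈ SS A J x y :=
  AddSubgroup.subset_closure (Or.inr ⟨j, b, rfl⟩)

variable (τ : TrivSqZeroExt A J) (hxy : x * y = algebraMap (TrivSqZeroExt A J) B' τ)

include hxy in
theorem x_mul_mem : ∀ s ∈ SS A J x y, x * s ∈ SS A J x y := by
  apply mul_mem_SS
  rintro g (⟨j, a, rfl⟩ | ⟨j, b, rfl⟩)
  · have : x * (alpha A J B' j * x ^ a) = alpha A J B' j * x ^ (a + 1) := by ring
    rw [this]
    exact gen_x_mem x y j (a + 1)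
  · rcases b with _ | b
    · have : x * (alpha A J B' j * y ^ 0) = alpha A J B' j * x ^ 1 := by ring
      rw [this]
      exact gen_x_mem x y j 1
    · have : x * (alpha A J B' j * y ^ (b + 1)) =
          (alpha A J B' j * (x * y)) * y ^ b := by ring
      rw [this, hxy, alpha_mul_algebraMap]
      exact gen_y_mem x y _ b

include hxy in
theorem y_mul_mem : ∀ s ∈ SS A J x y, y * s ∈ SS A J x y := by
  apply mul_mem_SS
  rintro g (⟨j, a, rfl⟩ | ⟨j, b, rfl⟩)
  · rcases a with _ | a
    · have : y * (alpha A J B' j * x ^ 0) = alpha A J B' j * y ^ 1 := by ring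
      rw [this]
      exact gen_y_mem x y j 1
    · have : y * (alpha A J B' j * x ^ (a + 1)) =
          (alpha A J B' j * (x * y)) * x ^ a := by ring
      rw [this, hxy, alpha_mul_algebraMap]
      exact gen_x_mem x y _ a
  · have : y * (alpha A J B' j * y ^ b) = alpha A J B' j * y ^ (b + 1) := by ring
    rw [this]
    exact gen_y_mem x y j (b + 1)

theorem algebraMap_mul_mem (z : TrivSqZeroExt A J) :
    ∀ s ∈ SS A J x y, algebraMap (TrivSqZeroExt A J) B' z * s ∈ SS A J x y := by
  apply mul_mem_SS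
  rintro g (⟨j, a, rfl⟩ | ⟨j, b, rfl⟩)
  · have : algebraMap (TrivSqZeroExt A J) B' z * (alpha A J B' j * x ^ a) =
        (alpha A J B' j * algebraMap (TrivSqZeroExt A J) B' z) * x ^ a := by ring
    rw [this, alpha_mul_algebraMap]
    exact gen_x_mem x y _ a
  · have : algebraMap (TrivSqZeroExt A J) B' z * (alpha A J B' j * y ^ b) =
        (alpha A J B' j * algebraMap (TrivSqZeroExt A J) B' z) * y ^ b := by ring
    rw [this, alpha_mul_algebraMap]
    exact gen_y_mem x y _ b

include hxy in
theorem map_kerIdeal_le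
    (hsurj : Function.Surjective
      (MvPolynomial.aeval ![x, y] :
        MvPolynomial (Fin 2) (TrivSqZeroExt A J) →ₐ[TrivSqZeroExt A J] B')) :
    ∀ s ∈ Ideal.map (algebraMap (TrivSqZeroExt A J) B') (TrivSqZeroExt.kerIdeal A J),
      s ∈ SS A J x y := by
  -- closure under all multiplications
  have hall : ∀ (p : MvPolynomial (Fin 2) (TrivSqZeroExt A J)), ∀ s ∈ SS A J x y,
      (MvPolynomial.aeval ![x, y] p : B') * s ∈ SS A J x y := by
    intro p
    induction p using MvPolynomial.induction_on with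
    | C a =>
      intro s hs
      rw [MvPolynomial.aeval_C]
      exact algebraMap_mul_mem x y a s hs
    | add p q hp hq =>
      intro s hs
      rw [map_add, add_mul]
      exact (SS A J x y).add_mem (hp s hs) (hq s hs)
    | mul_X p i hp =>
      intro s hs
      rw [map_mul, MvPolynomial.aeval_X, mul_assoc]
      apply hp
      fin_cases i
      · exact x_mul_mem x y τ hxy s hs
      · exact y_mul_mem x y τ hxy s hs
  intro s hs
  rw [Ideal.map] at hs
  refine Submodule.span_induction (p := fun s _ => s ∈ SS A J x y) ?_ ?_ ?_ ?_ hs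
  · rintro _ ⟨z, hz, rfl⟩
    have hz' : z = TrivSqZeroExt.inr z.snd := (TrivSqZeroExt.mem_kerIdeal_iff_inr A J z).mp hz
    have : algebraMap (TrivSqZeroExt A J) B' z = alpha A J B' z.snd * x ^ 0 := by
      rw [pow_zero, mul_one, alpha_apply, ← hz']
    show algebraMap (TrivSqZeroExt A J) B' z ∈ SS A J x y
    rw [this]
    exact gen_x_mem x y _ 0
  · exact (SS A J x y).zero_mem
  · intro a b _ _ ha hb
    exact (SS A J x y).add_mem ha hb
  · intro b s _ hs
    obtain ⟨p, rfl⟩ := hsurj b
    exact hall p s hs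

end NF

end Groth.Agent.Lib.Helper6.NodeDef
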