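import Mathlib
import Groth.Agent.Lib.Helper6.NodeDef.NDc

set_option autoImplicit false
set_option linter.unusedSectionVars false
set_option linter.unusedVariables false
set_option linter.unusedSimpArgs false
set_option linter.style.haveILetI false
set_option maxHeartbeats 400000

namespace Groth.Agent.Lib.Helper6.NodeDef

open TensorProduct LaurentPolynomial KaehlerDifferential

section Xi

variable {A : Type*} [CommRing A] {J : Type*} [AddCommGroup J] [Module A J] [Module Aᵐᵒᵖ J]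
  [IsCentralScalar A J]
  {B' : Type*} [CommRing B'] [Algebra (TrivSqZeroExt A J) B'] (x y : B')

variable (A J) in
/-- `u ↦ Σ ε u_a x^a`. -/
noncomputable def Xi1 : (ℕ →₀ J) →+ B' :=
  Finsupp.liftAddHom (fun a => (AddMonoidHom.mulRight (x ^ a)).comp (alpha A J B'))

variable (A J) in
/-- `v ↦ Σ ε v_b y^(b+1)`. -/
noncomputable def Xi2 : (ℕ →₀ J) →+ B' :=
  Finsupp.liftAddHom (fun b => (AddMonoidHom.mulRight (y ^ (b + 1))).comp (alpha A J B'))

theorem Xi1_single (a : ℕ) (j : J) :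
    Xi1 A J x (Finsupp.single a j) = alpha A J B' j * x ^ a := by
  rw [Xi1, Finsupp.liftAddHom_apply_single]
  rfl

theorem Xi2_single (b : ℕ) (j : J) :
    Xi2 A J y (Finsupp.single b j) = alpha A J B' j * y ^ (b + 1) := by
  rw [Xi2, Finsupp.liftAddHom_apply_single]
  rfl

theorem exists_of_mem_SS : ∀ s ∈ SS A J x y, ∃ u v : ℕ →₀ J, s = Xi1 A J x u + Xi2 A J y v := by
  intro s hs
  refine AddSubgroup.closure_induction
    (p := fun s _ => ∃ u v : ℕ →₀ J, s = Xi1 A J x u + Xi2 A J y v) ?_ ?_ ?_ ?_ hs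
  · rintro g (⟨j, a, rfl⟩ | ⟨j, b, rfl⟩)
    · exact ⟨Finsupp.single a j, 0, by rw [Xi1_single, map_zero, add_zero]⟩
    · rcases b with _ | b
      · exact ⟨Finsupp.single 0 j, 0, by rw [Xi1_single, map_zero, add_zero, pow_zero, pow_zero]⟩
      · exact ⟨0, Finsupp.single b j, by rw [Xi2_single, map_zero, zero_add]⟩
  · exact ⟨0, 0, by rw [map_zero, map_zero, add_zero]⟩
  · rintro a b _ _ ⟨u1, v1, rfl⟩ ⟨u2, v2, rfl⟩
    exact ⟨u1 + u2, v1 + v2, by rw [map_add, map_add]; abel⟩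
  · rintro a _ ⟨u, v, rfl⟩
    exact ⟨-u, -v, by rw [map_neg, map_neg]; abel⟩

end Xi

section Eval

variable {A : Type*} [CommRing A] {J : Type*} [AddCommGroup J] [Module A J] [Module Aᵐᵒᵖ J]
  [IsCentralScalar A J]
  {B' : Type*} [CommRing B'] [Algebra (TrivSqZeroExt A J) B'] (x y : B')
  (Θ : B' →+* EE A J)
  (hΘ : ∀ a', Θ (algebraMap (TrivSqZeroExt A J) B' a') = iotaE A J a')

include hΘ in
theorem snd_alpha_mul (j : J) (b : B') :
    (Θ (alpha A J B' j * b)).snd = (Θ b).fst ⊗ₜ[A] j := by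
  rw [map_mul, alpha_apply, hΘ, iotaE_inr, TrivSqZeroExt.snd_mul, TrivSqZeroExt.fst_inr,
    TrivSqZeroExt.snd_inr, zero_smul, zero_add, op_smul_eq_smul, smul_tmul', smul_eq_mul, mul_one]

/-- `b ↦ ev_m (snd (Θ b))`. -/
noncomputable def evTheta (m : ℤ) : B' →+ J :=
  (evL A J m).toAddMonoidHom.comp
    ((TrivSqZeroExt.sndHom (A[T;T⁻¹]) (A[T;T⁻¹] ⊗[A] J)).toAddMonoidHom.comp Θ.toAddMonoidHom)

theorem evTheta_apply (m : ℤ) (b : B') : evTheta Θ m b = evL A J m (Θ b).snd := rfl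

include hΘ in
theorem evTheta_gen (m : ℤ) (j : J) (b : B') :
    evTheta Θ m (alpha A J B' j * b) = ((Θ b).fst).coeff m • j := by
  rw [evTheta_apply, snd_alpha_mul Θ hΘ, evL_tmul]

end Eval

section Final

variable {A : Type*} [CommRing A] {J : Type*} [AddCommGroup J] [Module A J] [Module Aᵐᵒᵖ J]
  [IsCentralScalar A J]
  {B' : Type*} [CommRing B'] [Algebra (TrivSqZeroExt A J) B'] (x y : B')

theorem eq_zero_of_snd (t : A) (Θ1 Θ2 : B' →+* EE A J)
    (h1 : ∀ a', Θ1 (algebraMap (TrivSqZeroExt A J) B' a') = iotaE A J a')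
    (h2 : ∀ a', Θ2 (algebraMap (TrivSqZeroExt A J) B' a') = iotaE A J a')
    (h1x : (Θ1 x).fst = T 1) (h1y : (Θ1 y).fst = C t * T (-1))
    (h2x : (Θ2 x).fst = C t * T (-1)) (h2y : (Θ2 y).fst = T 1)
    (s : B') (hs : s ∈ SS A J x y) (hs1 : (Θ1 s).snd = 0) (hs2 : (Θ2 s).snd = 0) : s = 0 := by
  obtain ⟨u, v, rfl⟩ := exists_of_mem_SS x y s hs
  -- u = 0 via Θ1
  have hu : u = 0 := by
    ext m
    have e1 : (evTheta Θ1 (m : ℤ)).comp (Xi1 A J x) = Finsupp.applyAddHom m := by
      apply Finsupp.addHom_ext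
      intro a j
      rw [AddMonoidHom.comp_apply, Xi1_single, evTheta_gen Θ1 h1, map_pow,
        TrivSqZeroExt.fst_pow, h1x, coeff_T_pow, Finsupp.applyAddHom_apply,
        Finsupp.single_apply]
      by_cases ham : a = m
      · subst ham
        simp
      · have : ¬ ((a : ℤ) = (m : ℤ)) := by exact_mod_cast ham
        rw [if_neg this, if_neg ham, zero_smul]
    have e2 : (evTheta Θ1 (m : ℤ)).comp (Xi2 A J y) = 0 := by
      apply Finsupp.addHom_ext
      intro b j
      rw [AddMonoidHom.comp_apply, Xi2_single, evTheta_gen Θ1 h1, map_pow,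
        TrivSqZeroExt.fst_pow, h1y, coeff_CT_pow, AddMonoidHom.zero_apply]
      have : ¬ (-((b + 1 : ℕ) : ℤ) = (m : ℤ)) := by
        push_cast
        omega
      rw [if_neg this, zero_smul]
    have h0 : evTheta Θ1 (m : ℤ) (Xi1 A J x u + Xi2 A J y v) = 0 := by
      rw [evTheta_apply, hs1, map_zero]
    rw [map_add, ← AddMonoidHom.comp_apply, ← AddMonoidHom.comp_apply, e1, e2,
      AddMonoidHom.zero_apply, add_zero, Finsupp.applyAddHom_apply] at h0
    rw [h0]
    rfl
  have hv : v = 0 := by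
    ext m
    have e1 : (evTheta Θ2 ((m : ℤ) + 1)).comp (Xi1 A J x) = 0 := by
      apply Finsupp.addHom_ext
      intro a j
      rw [AddMonoidHom.comp_apply, Xi1_single, evTheta_gen Θ2 h2, map_pow,
        TrivSqZeroExt.fst_pow, h2x, coeff_CT_pow, AddMonoidHom.zero_apply]
      have : ¬ (-(a : ℤ) = (m : ℤ) + 1) := by omega
      rw [if_neg this, zero_smul]
    have e2 : (evTheta Θ2 ((m : ℤ) + 1)).comp (Xi2 A J y) = Finsupp.applyAddHom m := by
      apply Finsupp.addHom_ext
      intro b j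
      rw [AddMonoidHom.comp_apply, Xi2_single, evTheta_gen Θ2 h2, map_pow,
        TrivSqZeroExt.fst_pow, h2y, coeff_T_pow, Finsupp.applyAddHom_apply,
        Finsupp.single_apply]
      by_cases hbm : b = m
      · subst hbm
        simp
      · have : ¬ (((b + 1 : ℕ) : ℤ) = (m : ℤ) + 1) := by
          push_cast
          omega
        rw [if_neg this, if_neg hbm, zero_smul]
    have h0 : evTheta Θ2 ((m : ℤ) + 1) (Xi1 A J x u + Xi2 A J y v) = 0 := by
      rw [evTheta_apply, hs2, map_zero]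
    rw [map_add, ← AddMonoidHom.comp_apply, ← AddMonoidHom.comp_apply, e1, e2,
      AddMonoidHom.zero_apply, zero_add, Finsupp.applyAddHom_apply] at h0
    rw [h0]
    rfl
  rw [hu, hv, map_zero, map_zero, add_zero]

end Final

end Groth.Agent.Lib.Helper6.NodeDef
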