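import Mathlib
import Groth.Agent.Lib.Helper6.NodeDef.NDd

set_option autoImplicit false
set_option linter.unusedSectionVars false
set_option linter.unusedVariables false
set_option linter.unusedSimpArgs false
set_option linter.style.haveILetI false
set_option maxHeartbeats 400000

namespace Groth.Agent.Lib.Helper6.NodeDef

open TensorProduct LaurentPolynomial KaehlerDifferential

universe u

theorem main
    (A : Type u) [CommRing A] (J : Type u) [AddCommGroup J] [Module A J] [Module Aᵐᵒᵖ J]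
    [IsCentralScalar A J] (τ : TrivSqZeroExt A J)
    (B' : Type u) [CommRing B'] [Algebra (TrivSqZeroExt A J) B'] [Algebra A B']
    [IsScalarTower A (TrivSqZeroExt A J) B'] (x y : B')
    (hsurj : Function.Surjective
      (MvPolynomial.aeval ![x, y] : MvPolynomial (Fin 2) (TrivSqZeroExt A J) →ₐ[TrivSqZeroExt A J] B'))
    (hker : RingHom.ker
      (MvPolynomial.aeval ![x, y] : MvPolynomial (Fin 2) (TrivSqZeroExt A J) →ₐ[TrivSqZeroExt A J] B') =
      Ideal.span {MvPolynomial.X 0 * MvPolynomial.X 1 - MvPolynomial.C τ}) :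
    Function.Injective (KaehlerDifferential.kerToTensor A B'
      (B' ⧸ Ideal.map (algebraMap (TrivSqZeroExt A J) B') (TrivSqZeroExt.kerIdeal A J))) := by
  rw [injective_iff_map_eq_zero]
  intro i hi
  have hxy : x * y = algebraMap (TrivSqZeroExt A J) B' τ := by
    have hmem : (MvPolynomial.X 0 * MvPolynomial.X 1 - MvPolynomial.C τ :
        MvPolynomial (Fin 2) (TrivSqZeroExt A J)) ∈ RingHom.ker
        (MvPolynomial.aeval ![x, y] :
          MvPolynomial (Fin 2) (TrivSqZeroExt A J) →ₐ[TrivSqZeroExt A J] B') := by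
      rw [hker]
      exact Ideal.subset_span rfl
    rw [RingHom.mem_ker, map_sub, map_mul, MvPolynomial.aeval_X, MvPolynomial.aeval_X,
      MvPolynomial.aeval_C, sub_eq_zero] at hmem
    exact hmem
  let eT : EE A J := TrivSqZeroExt.inl (T 1)
  let eY : EE A J := TrivSqZeroExt.inl (C τ.fst * T (-1)) +
    TrivSqZeroExt.inr ((T (-1) : A[T;T⁻¹]) ⊗ₜ[A] τ.snd)
  have hTT : (T 1 : A[T;T⁻¹]) * T (-1) = 1 := by
    rw [← T_add, add_neg_cancel, T_zero]
  have hprod : eT * eY = iotaE A J τ := by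
    ext
    · rw [iotaE_fst]
      simp only [eT, eY, TrivSqZeroExt.fst_mul, TrivSqZeroExt.fst_inl, TrivSqZeroExt.fst_add,
        TrivSqZeroExt.fst_inr, add_zero]
      rw [mul_left_comm, hTT, mul_one]
      rfl
    · rw [iotaE_snd]
      simp only [eT, eY, TrivSqZeroExt.snd_mul, TrivSqZeroExt.fst_inl, TrivSqZeroExt.snd_add,
        TrivSqZeroExt.snd_inl, TrivSqZeroExt.snd_inr, zero_add, smul_zero, add_zero]
      rw [smul_tmul', smul_eq_mul, hTT]
  obtain ⟨Θ1, h1x, h1y, h1a⟩ := exists_lift τ x y hsurj hker eT eY hprod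
  obtain ⟨Θ2, h2x, h2y, h2a⟩ := exists_lift τ x y hsurj hker eY eT
    (by rw [mul_comm]; exact hprod)
  have hs1 := snd_eq_zero Θ1 h1a i hi
  have hs2 := snd_eq_zero Θ2 h2a i hi
  have hmem : (i : B') ∈
      Ideal.map (algebraMap (TrivSqZeroExt A J) B') (TrivSqZeroExt.kerIdeal A J) := by
    have h := i.2
    rw [RingHom.mem_ker] at h
    exact Ideal.Quotient.eq_zero_iff_mem.mp h
  have hS := map_kerIdeal_le x y τ hxy hsurj _ hmem
  have hfY : eY.fst = C τ.fst * T (-1) := by
    simp [eY]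
  have hfT : eT.fst = T 1 := rfl
  have h0 := eq_zero_of_snd x y τ.fst Θ1 Θ2 h1a h2a (by rw [h1x, hfT]) (by rw [h1y, hfY])
    (by rw [h2x, hfY]) (by rw [h2y, hfT]) i hS hs1 hs2
  exact Subtype.ext h0

end Groth.Agent.Lib.Helper6.NodeDef
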